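import Mathlib

set_option autoImplicit false

namespace Cfsg.Agent.S3419L

/-- A prime dividing the lcm of a multiset of naturals divides one of its members. -/
theorem AN_prime_dvd_lcm {p : ℕ} (hp : p.Prime) :
    ∀ s : Multiset ℕ, p ∣ s.lcm → ∃ c ∈ s, p ∣ c := by
  intro s
  induction s using Multiset.induction_on with
  | empty =>
    intro h
    simp only [Multiset.lcm_zero] at h
    exact absurd (Nat.dvd_one.1 h) hp.one_lt.ne'
  | cons a s ih =>
    intro h
    rw [Multiset.lcm_cons] at h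
    have h2 : p ∣ a * s.lcm := dvd_trans h (by
      have : lcm a s.lcm = Nat.lcm a s.lcm := rfl
      rw [this]; exact Nat.lcm_dvd_mul a s.lcm)
    rcases (Nat.Prime.dvd_mul hp).1 h2 with h3 | h3
    · exact ⟨a, Multiset.mem_cons_self a s, h3⟩
    · obtain ⟨c, hc, hpc⟩ := ih h3
      exact ⟨c, Multiset.mem_cons_of_mem hc, hpc⟩

theorem no_orderOf_mul_primes {n p r : ℕ} (hp : p.Prime) (hr : r.Prime) (hpr : p ≠ r)
    (hsum : n < p + r) (σ : Equiv.Perm (Fin n)) : orderOf σ ≠ p * r := by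
  intro hord
  have hlcm : σ.cycleType.lcm = p * r := by rw [Equiv.Perm.lcm_cycleType, hord]
  have hsumle : σ.cycleType.sum ≤ n := by
    rw [Equiv.Perm.sum_cycleType]
    calc σ.support.card ≤ (Finset.univ : Finset (Fin n)).card := Finset.card_le_univ _
      _ = n := by simp
  obtain ⟨c1, hc1, hpc1⟩ := AN_prime_dvd_lcm hp σ.cycleType (by rw [hlcm]; exact dvd_mul_right p r)
  obtain ⟨c2, hc2, hrc2⟩ := AN_prime_dvd_lcm hr σ.cycleType (by rw [hlcm]; exact dvd_mul_left r p)
  have hc1pos : 0 < c1 := by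
    have := Equiv.Perm.two_le_of_mem_cycleType hc1; omega
  have hc2pos : 0 < c2 := by
    have := Equiv.Perm.two_le_of_mem_cycleType hc2; omega
  have hp2 := hp.two_le
  have hr2 := hr.two_le
  by_cases hcc : c1 = c2
  · subst hcc
    have hprd : p * r ∣ c1 :=
      Nat.Coprime.mul_dvd_of_dvd_of_dvd ((Nat.coprime_primes hp hr).2 hpr) hpc1 hrc2
    have h1 : p * r ≤ c1 := Nat.le_of_dvd hc1pos hprd
    have h2 : c1 ≤ σ.cycleType.sum := Multiset.le_sum_of_mem hc1
    have h3 : p + r ≤ p * r := by nlinarith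
    omega
  · obtain ⟨t, ht⟩ := Multiset.exists_cons_of_mem hc1
    have hc2t : c2 ∈ t := by
      have : c2 ∈ c1 ::ₘ t := ht ▸ hc2
      rcases Multiset.mem_cons.1 this with h | h
      · exact absurd h.symm hcc
      · exact h
    obtain ⟨t', ht'⟩ := Multiset.exists_cons_of_mem hc2t
    have hs : σ.cycleType.sum = c1 + (c2 + t'.sum) := by
      rw [ht, Multiset.sum_cons, ht', Multiset.sum_cons]
    have h1 : p ≤ c1 := Nat.le_of_dvd hc1pos hpc1
    have h2 : r ≤ c2 := Nat.le_of_dvd hc2pos hrc2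
    omega

theorem two_mul_card_alt (n : ℕ) (hn : 2 ≤ n) :
    2 * Nat.card ↥(alternatingGroup (Fin n)) = n.factorial := by
  haveI : Nontrivial (Fin n) := Fin.nontrivial_iff_two_le.2 hn
  rw [Nat.card_eq_fintype_card, two_mul_card_alternatingGroup, Fintype.card_perm, Fintype.card_fin]

end Cfsg.Agent.S3419L
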