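import Mathlib

/-!
# S3419, piece L1: a solvable group with a Sylow `p`-subgroup of order `p` and no element of
order `p r`
-/

set_option autoImplicit false

namespace Cfsg.Agent.S3419L

open scoped commutatorElement

universe u

/-- a nontrivial finite solvable group has a nontrivial normal `s`-subgroup -/
theorem L1_exists_normal_pgroup (G : Type u) [Group G] [Finite G] (hsol : Group.IsSolvable G)
    [Nontrivial G] :
    ∃ (s : ℕ) (N : Subgroup G), s.Prime ∧ N.Normal ∧ N ≠ ⊥ ∧ IsPGroup s N := by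
  classical
  have hex : ∃ k, derivedSeries G k = ⊥ := hsol.solvable
  have hspec := Nat.find_spec hex
  have hn0 : Nat.find hex ≠ 0 := by
    intro h0
    rw [h0, derivedSeries_zero] at hspec
    exact top_ne_bot hspec
  obtain ⟨j, hj⟩ := Nat.exists_eq_succ_of_ne_zero hn0
  have hAne : derivedSeries G j ≠ ⊥ := by
    intro h
    have := Nat.find_min' hex h
    omega
  have hAA : ⁅derivedSeries G j, derivedSeries G j⁆ = ⊥ := by
    rw [hj, derivedSeries_succ] at hspec
    exact hspec
  have hAn : (derivedSeries G j).Normal := derivedSeries_normal G j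
  generalize derivedSeries G j = A at hAne hAA hAn
  have hcomm : ∀ a ∈ A, ∀ b ∈ A, a * b = b * a := by
    intro a ha b hb
    have : ⁅a, b⁆ ∈ ⁅A, A⁆ := Subgroup.commutator_mem_commutator ha hb
    rw [hAA, Subgroup.mem_bot] at this
    exact commutatorElement_eq_one_iff_mul_comm.1 this
  have hcard : Nat.card A ≠ 1 := by
    rw [Ne, Subgroup.card_eq_one]
    exact hAne
  obtain ⟨s, hs, hsdvd⟩ := Nat.exists_prime_and_dvd hcard
  have : Fact s.Prime := ⟨hs⟩
  let N : Subgroup G :=
    { carrier := {x | x ∈ A ∧ x ^ s = 1}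
      mul_mem' := by
        rintro a b ⟨ha, ha'⟩ ⟨hb, hb'⟩
        refine ⟨A.mul_mem ha hb, ?_⟩
        rw [(show Commute a b from hcomm a ha b hb).mul_pow, ha', hb', one_mul]
      one_mem' := ⟨A.one_mem, one_pow _⟩
      inv_mem' := by
        rintro a ⟨ha, ha'⟩
        exact ⟨A.inv_mem ha, by rw [inv_pow, ha', inv_one]⟩ }
  refine ⟨s, N, hs, ?_, ?_, ?_⟩
  · refine ⟨fun x hx g => ?_⟩
    obtain ⟨hx1, hx2⟩ := hx
    exact ⟨hAn.conj_mem x hx1 g, by rw [conj_pow, hx2, mul_one, mul_inv_cancel]⟩
  · obtain ⟨x, hx⟩ := exists_prime_orderOf_dvd_card' (G := A) s hsdvd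
    intro hbot
    have hxN : (x : G) ∈ N := by
      refine ⟨x.2, ?_⟩
      have : x ^ s = 1 := by rw [← hx]; exact pow_orderOf_eq_one x
      have h2 : ((x ^ s : A) : G) = 1 := by rw [this]; rfl
      simpa using h2
    rw [hbot, Subgroup.mem_bot] at hxN
    have : x = 1 := Subtype.ext hxN
    rw [this, orderOf_one] at hx
    exact hs.one_lt.ne hx
  · intro g
    refine ⟨1, ?_⟩
    apply Subtype.ext
    rw [pow_one]
    simpa using g.2.2

/-- an element of order `p` acts on a normal `r`-subgroup without fixed points, if there is no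
element of order `p r` -/
theorem L1_card_modEq_one (G : Type u) [Group G] [Finite G] (K : Subgroup G) [K.Normal]
    (p r b : ℕ) [Fact p.Prime] (hr : r.Prime) (hpr : p ≠ r) (hK : Nat.card K = r ^ b) (x : G)
    (hx : orderOf x = p) (hno : ∀ g : G, orderOf g ≠ p * r) : r ^ b ≡ 1 [MOD p] := by
  have hp : p.Prime := Fact.out
  let Q : Subgroup (ConjAct G) := Subgroup.zpowers (ConjAct.toConjAct x)
  have hQ : IsPGroup p Q := by
    apply IsPGroup.of_card (n := 1)
    rw [Nat.card_zpowers, MulEquiv.orderOf_eq, hx, pow_one]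
  have h1 := hQ.card_modEq_card_fixedPoints (↥K)
  have h2 : Nat.card (MulAction.fixedPoints Q ↥K) = 1 := by
    rw [Nat.card_eq_one_iff_unique]
    refine ⟨⟨?_⟩, ⟨⟨1, fun q => smul_one q⟩⟩⟩
    rintro ⟨y, hy⟩ ⟨z, hz⟩
    have key : ∀ y : ↥K, y ∈ MulAction.fixedPoints Q ↥K → y = 1 := by
      intro y hy
      by_contra hne
      have hfix := hy ⟨ConjAct.toConjAct x, Subgroup.mem_zpowers _⟩
      have hfix' : x * (y : G) * x⁻¹ = (y : G) := by
        have := congrArg Subtype.val hfix
        rw [Subgroup.smul_def, ConjAct.Subgroup.val_conj_smul, ConjAct.toConjAct_smul] at this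
        exact this
      have hcomm : Commute x (y : G) := by
        have : x * (y : G) = (y : G) * x := by
          calc x * (y : G) = x * (y : G) * x⁻¹ * x := by group
            _ = (y : G) * x := by rw [hfix']
        exact this
      have hord : orderOf (y : G) ∣ r ^ b := by
        rw [Subgroup.orderOf_coe, ← hK]
        exact orderOf_dvd_natCard y
      obtain ⟨j, hjb, hj⟩ := (Nat.dvd_prime_pow hr).1 hord
      have hj0 : j ≠ 0 := by
        rintro rfl
        rw [pow_zero, orderOf_eq_one_iff] at hj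
        exact hne (Subtype.ext hj)
      obtain ⟨i, rfl⟩ := Nat.exists_eq_succ_of_ne_zero hj0
      have hy' : orderOf ((y : G) ^ r ^ i) = r := by
        rw [orderOf_pow_of_dvd (pow_ne_zero _ hr.ne_zero) (by rw [hj]; exact pow_dvd_pow r (Nat.le_succ i)),
          hj, pow_succ, Nat.mul_div_cancel_left _ (pow_pos hr.pos i)]
      have hcomm' : Commute x ((y : G) ^ r ^ i) := hcomm.pow_right _
      have := hcomm'.orderOf_mul_eq_mul_orderOf_of_coprime
        (by rw [hx, hy']; exact (Nat.coprime_primes hp hr).2 hpr)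
      rw [hx, hy'] at this
      exact hno _ this
    apply Subtype.ext
    show y = z
    rw [key y hy, key z hz]
  rw [h2, hK] at h1
  exact h1

theorem solvable_prime_structure (G : Type u) [Group G] [Finite G] (hsol : Group.IsSolvable G)
    (p r a m : ℕ) (hp : p.Prime) (hr : r.Prime) (hpr : p ≠ r)
    (hp1 : p ∣ Nat.card G) (hp2 : ¬ p ^ 2 ∣ Nat.card G)
    (hcard : Nat.card G = r ^ a * m) (hm : ¬ r ∣ m)
    (hno : ∀ g : G, orderOf g ≠ p * r) :
    ∃ e, e ≤ a ∧ r ^ e ∣ p - 1 ∧ r ^ (a - e) ≡ 1 [MOD p] := by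
  obtain ⟨N, hN⟩ : ∃ N, Nat.card G = N := ⟨_, rfl⟩
  induction N using Nat.strong_induction_on generalizing G a m with
  | _ N ih =>
  have : Fact p.Prime := ⟨hp⟩
  have : Nontrivial G := by
    rw [← Finite.one_lt_card_iff_nontrivial]
    exact lt_of_lt_of_le hp.one_lt (Nat.le_of_dvd Nat.card_pos hp1)
  obtain ⟨s, K, hs, hKn, hKne, hKp⟩ := L1_exists_normal_pgroup G hsol
  haveI := hKn
  have : Fact s.Prime := ⟨hs⟩
  obtain ⟨b, hb⟩ := hKp.exists_card_eq
  have hb0 : b ≠ 0 := by
    rintro rfl
    rw [pow_zero, Subgroup.card_eq_one] at hb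
    exact hKne hb
  have hKG : Nat.card G = Nat.card (G ⧸ K) * Nat.card K :=
    Subgroup.card_eq_card_quotient_mul_card_subgroup K
  obtain ⟨x, hx⟩ := exists_prime_orderOf_dvd_card' (G := G) p hp1
  by_cases hsp : s = p
  · -- `K` has order `p`
    rw [hsp] at hb
    have hb1 : b = 1 := by
      by_contra hne
      have h2 : 2 ≤ b := by omega
      apply hp2
      calc p ^ 2 ∣ p ^ b := pow_dvd_pow p h2
        _ ∣ Nat.card G := by rw [← hb]; exact Subgroup.card_subgroup_dvd_card K
    rw [hb1, pow_one] at hb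
    haveI : IsCyclic K := isCyclic_of_prime_card hb
    have key := Subgroup.card_dvd_of_injective _
      (QuotientGroup.kerLift_injective K.normalizerMonoidHom)
    rw [Subgroup.normalizerMonoidHom_ker, ← Subgroup.index, ← Subgroup.relIndex,
      IsCyclic.card_mulAut, hb, Nat.totient_prime hp] at key
    have hnorm : Subgroup.normalizer (K : Set G) = ⊤ := Subgroup.normalizer_eq_top K
    rw [hnorm, Subgroup.relIndex_top_right] at key
    -- `r` does not divide the order of the centralizer
    have hrC : ¬ r ∣ Nat.card (Subgroup.centralizer (K : Set G)) := by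
      intro hdvd
      have : Fact r.Prime := ⟨hr⟩
      obtain ⟨y, hy⟩ := exists_prime_orderOf_dvd_card' (G := Subgroup.centralizer (K : Set G)) r hdvd
      obtain ⟨k, hk⟩ := exists_prime_orderOf_dvd_card' (G := K) p (by rw [hb])
      have hcomm : Commute (k : G) (y : G) := by
        have := (Subgroup.mem_centralizer_iff.1 y.2) (k : G) k.2
        exact this
      have := hcomm.orderOf_mul_eq_mul_orderOf_of_coprime
        (by rw [Subgroup.orderOf_coe, Subgroup.orderOf_coe, hk, hy]
            exact (Nat.coprime_primes hp hr).2 hpr)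
      rw [Subgroup.orderOf_coe, Subgroup.orderOf_coe, hk, hy] at this
      exact hno _ this
    have hra : r ^ a ∣ (Subgroup.centralizer (K : Set G)).index := by
      have h1 : r ^ a ∣ Nat.card (Subgroup.centralizer (K : Set G)) *
          (Subgroup.centralizer (K : Set G)).index := by
        rw [Subgroup.card_mul_index, hcard]
        exact Dvd.intro _ rfl
      exact (Nat.Coprime.pow_left a ((Nat.Prime.coprime_iff_not_dvd hr).2 hrC)).dvd_of_dvd_mul_left h1
    exact ⟨a, le_rfl, hra.trans key, by rw [Nat.sub_self, pow_zero]⟩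
  · -- pass to `G ⧸ K`
    have hKpos : 2 ≤ Nat.card K := by
      rw [hb]
      calc 2 ≤ s := hs.two_le
        _ = s ^ 1 := (pow_one s).symm
        _ ≤ s ^ b := Nat.pow_le_pow_right hs.pos (by omega)
    have hQpos : 0 < Nat.card (G ⧸ K) := Nat.card_pos
    have hQlt : Nat.card (G ⧸ K) < N := by
      rw [← hN, hKG]
      nlinarith
    haveI := hsol
    have hQsol : Group.IsSolvable (G ⧸ K) := inferInstance
    have hQp1 : p ∣ Nat.card (G ⧸ K) := by
      rw [hKG, hb] at hp1
      rcases (Nat.Prime.dvd_mul hp).1 hp1 with h | h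
      · exact h
      · exact absurd ((Nat.prime_dvd_prime_iff_eq hp hs).1 (hp.dvd_of_dvd_pow h)).symm hsp
    have hQp2 : ¬ p ^ 2 ∣ Nat.card (G ⧸ K) := fun h => hp2 (h.trans ⟨_, hKG⟩)
    have hQno : ∀ q : G ⧸ K, orderOf q ≠ p * r := by
      intro q hq
      obtain ⟨g, rfl⟩ := QuotientGroup.mk_surjective q
      have hdvd : orderOf (QuotientGroup.mk g : G ⧸ K) ∣ orderOf g := by
        apply orderOf_dvd_of_pow_eq_one
        rw [← QuotientGroup.mk_pow, pow_orderOf_eq_one, QuotientGroup.mk_one]
      rw [hq] at hdvd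
      obtain ⟨t, ht⟩ := hdvd
      have ht0 : t ≠ 0 := by
        rintro rfl
        rw [mul_zero] at ht
        exact (orderOf_pos g).ne' ht
      have := orderOf_pow_of_dvd (x := g) ht0 ⟨p * r, by rw [ht, mul_comm]⟩
      rw [ht, Nat.mul_div_cancel _ (Nat.pos_of_ne_zero ht0)] at this
      exact hno _ this
    by_cases hsr : s = r
    · rw [hsr] at hb
      have hba : b ≤ a := by
        have h1 : r ^ b ∣ r ^ a * m := by
          rw [← hcard, hKG, hb]
          exact Dvd.intro_left _ rfl
        have h2 : r ^ b ∣ r ^ a :=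
          (Nat.Coprime.pow_left b ((Nat.Prime.coprime_iff_not_dvd hr).2 hm)).dvd_of_dvd_mul_right h1
        exact (Nat.pow_dvd_pow_iff_le_right hr.one_lt).1 h2
      have hQcard : Nat.card (G ⧸ K) = r ^ (a - b) * m := by
        have h1 : Nat.card (G ⧸ K) * r ^ b = r ^ (a - b) * m * r ^ b := by
          rw [← hb, ← hKG, hcard, hb]
          calc r ^ a * m = r ^ (a - b + b) * m := by rw [Nat.sub_add_cancel hba]
            _ = r ^ (a - b) * m * r ^ b := by rw [pow_add]; ring
        exact Nat.eq_of_mul_eq_mul_right (pow_pos hr.pos b) h1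
      obtain ⟨e, he, hdvd, hmod⟩ := ih _ hQlt (G ⧸ K) hQsol (a - b) m hQp1 hQp2 hQcard hm hQno rfl
      have hrb : r ^ b ≡ 1 [MOD p] := L1_card_modEq_one G K p r b hr hpr hb x hx hno
      refine ⟨e, by omega, hdvd, ?_⟩
      have : a - e = (a - b - e) + b := by omega
      rw [this, pow_add]
      simpa using hmod.mul hrb
    · have hcop : Nat.Coprime (r ^ a) (s ^ b) :=
        Nat.Coprime.pow _ _ ((Nat.coprime_primes hr hs).2 (fun h => hsr h.symm))
      have h1 : r ^ a ∣ Nat.card (G ⧸ K) * s ^ b := by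
        rw [← hb, ← hKG, hcard]
        exact Dvd.intro _ rfl
      obtain ⟨m', hm'⟩ := hcop.dvd_of_dvd_mul_right h1
      have hmm : m = m' * s ^ b := by
        have h2 : r ^ a * m = r ^ a * (m' * s ^ b) := by
          rw [← hcard, hKG, hb, hm', mul_assoc]
        exact Nat.eq_of_mul_eq_mul_left (pow_pos hr.pos a) h2
      have hrm' : ¬ r ∣ m' := fun h => hm (hmm ▸ Dvd.dvd.mul_right h _)
      exact ih _ hQlt (G ⧸ K) hQsol a m' hQp1 hQp2 hm' hrm' hQno rfl

end Cfsg.Agent.S3419L
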