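import Mathlib

set_option autoImplicit false

namespace Cfsg.Agent.S3419L

/-! # S3419 piece NT1 : Mathlib's `Bertrand.main_inequality` with one more factor `2 n` (lead) -/

open Real in
theorem NT1_real {x : ℝ} (x_large : (512 : ℝ) ≤ x) :
    x * ((2 * x) ^ √(2 * x) * 4 ^ (2 * x / 3) * (2 * x)) ≤ 4 ^ x := by
  let f : ℝ → ℝ := fun x => log x + (log 2 + log x) + √(2 * x) * log (2 * x) - log 4 / 3 * x
  have h5 : 0 < x := lt_of_lt_of_le (by norm_num1) x_large
  have h6 : 0 < 2 * x := by positivity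
  have h7 : 0 < (2 * x) ^ √(2 * x) := rpow_pos_of_pos h6 _
  have h8 : (0 : ℝ) < 4 ^ (2 * x / 3) := rpow_pos_of_pos four_pos _
  have hL : 0 < x * ((2 * x) ^ √(2 * x) * 4 ^ (2 * x / 3) * (2 * x)) := by positivity
  have hR : (0 : ℝ) < 4 ^ x := rpow_pos_of_pos four_pos _
  rw [← Real.log_le_log_iff hL hR]
  have e1 : log (x * ((2 * x) ^ √(2 * x) * 4 ^ (2 * x / 3) * (2 * x))) =
      log x + (√(2 * x) * log (2 * x) + (2 * x / 3) * log 4 + (log 2 + log x)) := by
    rw [log_mul h5.ne' (by positivity), log_mul (by positivity) h6.ne',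
      log_mul h7.ne' h8.ne', log_rpow h6, log_rpow four_pos, log_mul two_ne_zero h5.ne']
  have e2 : log ((4 : ℝ) ^ x) = x * log 4 := log_rpow four_pos x
  rw [e1, e2]
  have h : ConcaveOn ℝ (Set.Ioi 0.5) f := by
    apply ConcaveOn.sub
    · apply ConcaveOn.add
      · apply ConcaveOn.add
        · exact strictConcaveOn_log_Ioi.concaveOn.subset
            (Set.Ioi_subset_Ioi (by norm_num)) (convex_Ioi 0.5)
        · apply ConcaveOn.add
          · exact concaveOn_const _ (convex_Ioi 0.5)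
          · exact strictConcaveOn_log_Ioi.concaveOn.subset
              (Set.Ioi_subset_Ioi (by norm_num)) (convex_Ioi 0.5)
      convert!
        ((strictConcaveOn_sqrt_mul_log_Ioi.concaveOn.comp_linearMap ((2 : ℝ) • LinearMap.id)))
        using 1
      ext x
      simp only [Set.mem_Ioi, Set.mem_preimage, LinearMap.smul_apply,
        LinearMap.id_coe, id_eq, smul_eq_mul]
      rw [← mul_lt_mul_iff_right₀ (two_pos)]
      norm_num1
      rfl
    apply ConvexOn.smul
    · refine div_nonneg (log_nonneg (by norm_num1)) (by norm_num1)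
    · exact convexOn_id (convex_Ioi (0.5 : ℝ))
  have key : f x ≤ 0 := by
    suffices ∃ x1 x2, 0.5 < x1 ∧ x1 < x2 ∧ x2 ≤ x ∧ 0 ≤ f x1 ∧ f x2 ≤ 0 by
      obtain ⟨x1, x2, h1, h2, h0, h3, h4⟩ := this
      exact (h.right_le_of_le_left'' h1 ((h1.trans h2).trans_le h0) h2 h0 (h4.trans h3)).trans h4
    refine ⟨18, 512, by norm_num1, by norm_num1, x_large, ?_, ?_⟩
    · have h36 : √(36 : ℝ) = 6 :=
        (sqrt_eq_iff_mul_self_eq_of_pos (by norm_num1)).mpr (by norm_num1)
      have e : f 18 = log 18 + (log 2 + log 18) + 6 * log 36 - log 4 / 3 * 18 := by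
        simp only [f]
        rw [show (2 : ℝ) * 18 = 36 by norm_num, h36]
      rw [e]
      have a1 : (0 : ℝ) ≤ log 18 := log_nonneg (by norm_num)
      have a2 : (0 : ℝ) ≤ log 2 := log_nonneg (by norm_num)
      have a3 : log (4 : ℝ) ≤ log 36 := log_le_log (by norm_num) (by norm_num)
      linarith
    · have h1024 : √(1024 : ℝ) = 32 :=
        (sqrt_eq_iff_mul_self_eq_of_pos (by norm_num1)).mpr (by norm_num1)
      have e : f 512 = log 512 + (log 2 + log 512) + 32 * log 1024 - log 4 / 3 * 512 := by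
        simp only [f]
        rw [show (2 : ℝ) * 512 = 1024 by norm_num, h1024]
      rw [e]
      have l512 : log (512 : ℝ) = 9 * log 2 := by
        rw [show (512 : ℝ) = 2 ^ 9 by norm_num, log_pow]; norm_num
      have l1024 : log (1024 : ℝ) = 10 * log 2 := by
        rw [show (1024 : ℝ) = 2 ^ 10 by norm_num, log_pow]; norm_num
      have l4 : log (4 : ℝ) = 2 * log 2 := by
        rw [show (4 : ℝ) = 2 ^ 2 by norm_num, log_pow]; norm_num
      have a2 : (0 : ℝ) ≤ log 2 := log_nonneg (by norm_num)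
      rw [l512, l1024, l4]
      nlinarith
  simp only [f] at key
  linarith

theorem nt_main_inequality {n : ℕ} (n_large : 512 ≤ n) :
    n * ((2 * n) ^ Nat.sqrt (2 * n) * 4 ^ (2 * n / 3) * (2 * n)) ≤ 4 ^ n := by
  rw [← @Nat.cast_le ℝ]
  simp only [Nat.cast_mul, Nat.cast_pow, ← Real.rpow_natCast, Nat.cast_ofNat]
  refine _root_.trans ?_ (NT1_real (by exact_mod_cast n_large))
  gcongr
  · have n2_pos : 0 < 2 * n := by positivity
    exact mod_cast n2_pos
  · exact_mod_cast Real.nat_sqrt_le_real_sqrt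
  · norm_num1
  · exact Nat.cast_div_le.trans (by norm_cast)

end Cfsg.Agent.S3419L
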