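import Mathlib

set_option autoImplicit false

namespace Cfsg.Agent.S3419L

open Nat

/-- the part of Erdős' bound coming from the primes up to `2n/3` (copied from Mathlib's
`centralBinom_le_of_no_bertrand_prime`) -/
theorem NT2_small_part (n : ℕ) (n_large : 2 < n) :
    ∏ p ∈ Finset.range (2 * n / 3 + 1), p ^ (centralBinom n).factorization p ≤
      (2 * n) ^ sqrt (2 * n) * 4 ^ (2 * n / 3) := by
  have n_pos : 0 < n := (Nat.zero_le _).trans_lt n_large
  have n2_pos : 1 ≤ 2 * n := mul_pos (zero_lt_two' ℕ) n_pos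
  let S := {p ∈ Finset.range (2 * n / 3 + 1) | Nat.Prime p}
  let f x := x ^ n.centralBinom.factorization x
  have : ∏ x ∈ S, f x = ∏ x ∈ Finset.range (2 * n / 3 + 1), f x := by
    refine Finset.prod_filter_of_ne fun p _ h => ?_
    contrapose h; dsimp only [f]
    rw [factorization_eq_zero_of_not_prime n.centralBinom h, _root_.pow_zero]
  change ∏ x ∈ Finset.range (2 * n / 3 + 1), f x ≤ _
  rw [← this, ← Finset.prod_filter_mul_prod_filter_not S (· ≤ sqrt (2 * n))]
  apply mul_le_mul'
  · refine (Finset.prod_le_prod' fun p _ => (?_ : f p ≤ 2 * n)).trans ?_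
    · exact pow_factorization_choose_le (mul_pos two_pos n_pos)
    have : (Finset.Icc 1 (sqrt (2 * n))).card = sqrt (2 * n) := by rw [card_Icc, Nat.add_sub_cancel]
    rw [Finset.prod_const]
    refine pow_right_mono₀ n2_pos ((Finset.card_le_card fun x hx => ?_).trans this.le)
    obtain ⟨h1, h2⟩ := Finset.mem_filter.1 hx
    exact Finset.mem_Icc.mpr ⟨(Finset.mem_filter.1 h1).2.one_lt.le, h2⟩
  · refine le_trans ?_ (primorial_le_four_pow (2 * n / 3))
    refine (Finset.prod_le_prod' fun p hp => (?_ : f p ≤ p)).trans ?_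
    · obtain ⟨h1, h2⟩ := Finset.mem_filter.1 hp
      refine (pow_right_mono₀ (Finset.mem_filter.1 h1).2.one_lt.le ?_).trans (pow_one p).le
      exact Nat.factorization_choose_le_one (sqrt_lt'.mp <| not_le.1 h2)
    refine Finset.prod_le_prod_of_subset_of_one_le' (Finset.filter_subset _ _) ?_
    exact fun p hp _ => (Finset.mem_filter.1 hp).2.one_lt.le

theorem centralBinom_le_of_unique_prime (n : ℕ) (n_large : 2 < n) (q : ℕ)
    (hq : ∀ p : ℕ, p.Prime → n < p → p ≤ 2 * n → p = q) :
    Nat.centralBinom n ≤ (2 * n) ^ Nat.sqrt (2 * n) * 4 ^ (2 * n / 3) * (2 * n) := by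
  have n_pos : 0 < n := (Nat.zero_le _).trans_lt n_large
  set f : ℕ → ℕ := fun x => x ^ n.centralBinom.factorization x with hf
  have hsub : Finset.range (2 * n / 3 + 1) ⊆ Finset.range (2 * n + 1) := by
    intro x hx
    rw [Finset.mem_range] at hx ⊢
    have : 2 * n / 3 ≤ 2 * n := Nat.div_le_self _ _
    omega
  have hsplit : centralBinom n =
      (∏ x ∈ Finset.range (2 * n / 3 + 1), f x) *
        ∏ x ∈ Finset.range (2 * n + 1) \ Finset.range (2 * n / 3 + 1), f x := by
    rw [mul_comm, Finset.prod_sdiff hsub]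
    exact (n.prod_pow_factorization_centralBinom).symm
  -- every factor of the second product other than `q` is `1`
  have hone : ∀ x ∈ Finset.range (2 * n + 1) \ Finset.range (2 * n / 3 + 1), x ≠ q → f x = 1 := by
    intro x hx hxq
    rw [Finset.mem_sdiff, Finset.mem_range, Finset.mem_range] at hx
    obtain ⟨hx1, hx2⟩ := hx
    have h2x : 2 * n < 3 * x := by
      have : 2 * n / 3 < x := by omega
      rw [Nat.div_lt_iff_lt_mul three_pos] at this
      omega
    by_cases hp : x.Prime
    · by_cases hxn : x ≤ n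
      · simp only [hf]
        rw [factorization_centralBinom_of_two_mul_self_lt_three_mul n_large hxn h2x, Nat.pow_zero]
      · exact absurd (hq x hp (by omega) (by omega)) hxq
    · simp only [hf]
      rw [factorization_eq_zero_of_not_prime n.centralBinom hp, Nat.pow_zero]
  have hfq : f q ≤ 2 * n := by
    simp only [hf]
    exact pow_factorization_choose_le (mul_pos two_pos n_pos)
  have hsecond : ∏ x ∈ Finset.range (2 * n + 1) \ Finset.range (2 * n / 3 + 1), f x ≤ 2 * n := by
    by_cases hqm : q ∈ Finset.range (2 * n + 1) \ Finset.range (2 * n / 3 + 1)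
    · rw [Finset.prod_eq_single_of_mem q hqm (fun x hx hxq => hone x hx hxq)]
      exact hfq
    · rw [Finset.prod_eq_one (fun x hx => hone x hx (fun e => hqm (e ▸ hx)))]
      omega
  rw [hsplit]
  exact Nat.mul_le_mul (NT2_small_part n n_large) hsecond

end Cfsg.Agent.S3419L
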