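import Mathlib
import Cfsg.Agent.Lib.S3419.NT1
import Cfsg.Agent.Lib.S3419.NT2

set_option autoImplicit false

namespace Cfsg.Agent.S3419L

/-- Piece NT3 of S3419: two primes in `(n, 2n]` for `n ≥ 512`. -/
theorem two_primes_eventually (n : ℕ) (n_large : 512 ≤ n) :
    ∃ p r : ℕ, p.Prime ∧ r.Prime ∧ n < r ∧ r < p ∧ p ≤ 2 * n := by
  by_contra hcon
  have huniq : ∃ q : ℕ, ∀ p : ℕ, p.Prime → n < p → p ≤ 2 * n → p = q := by
    by_cases hex : ∃ q : ℕ, q.Prime ∧ n < q ∧ q ≤ 2 * n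
    · obtain ⟨q, hq, hnq, hq2⟩ := hex
      refine ⟨q, fun p hp hnp hp2 => ?_⟩
      by_contra hne
      rcases lt_or_gt_of_ne hne with hlt | hgt
      · exact hcon ⟨q, p, hq, hp, hnp, hlt, hq2⟩
      · exact hcon ⟨p, q, hp, hq, hnq, hgt, hp2⟩
    · refine ⟨0, fun p hp hnp hp2 => ?_⟩
      exact absurd ⟨p, hp, hnp, hp2⟩ hex
  obtain ⟨q, hq⟩ := huniq
  have h1 := centralBinom_le_of_unique_prime n (by omega) q hq
  have h2 := Nat.four_pow_lt_mul_centralBinom n (by omega)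
  have h3 := nt_main_inequality n_large
  have h4 : n * Nat.centralBinom n ≤
      n * ((2 * n) ^ Nat.sqrt (2 * n) * 4 ^ (2 * n / 3) * (2 * n)) :=
    Nat.mul_le_mul_left n h1
  omega

end Cfsg.Agent.S3419L
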