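import Mathlib
import Cfsg.Agent.Lib.S3419.NT3

/-!
# S3419 pieces NT4 + NT5 (helper8): two primes in `(m, 2m]` for `m ≥ 6`, and in `(n/2, n]` for `n ≥ 11`
-/

set_option autoImplicit false

namespace Cfsg.Agent.S3419L

/-- one link of the chain: primes `r < p ≤ 2 lo` serve every `m` with `lo ≤ m < r` -/
theorem NT4_link (lo r p : ℕ) (hr : r.Prime) (hp : p.Prime) (hrp : r < p) (hp2 : p ≤ 2 * lo)
    (m : ℕ) (h1 : lo ≤ m) (h2 : m < r) :
    ∃ p r : ℕ, p.Prime ∧ r.Prime ∧ m < r ∧ r < p ∧ p ≤ 2 * m :=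
  ⟨p, r, hp, hr, h2, hrp, by omega⟩

theorem two_primes_between (m : ℕ) (hm : 6 ≤ m) :
    ∃ p r : ℕ, p.Prime ∧ r.Prime ∧ m < r ∧ r < p ∧ p ≤ 2 * m := by
  rcases Nat.lt_or_ge m 7 with h | h
  · exact NT4_link 6 7 11 (by norm_num) (by norm_num) (by norm_num) (by norm_num) m hm h
  rcases Nat.lt_or_ge m 11 with h' | h'
  · exact NT4_link 7 11 13 (by norm_num) (by norm_num) (by norm_num) (by norm_num) m h h'
  rcases Nat.lt_or_ge m 13 with h | h
  · exact NT4_link 11 13 19 (by norm_num) (by norm_num) (by norm_num) (by norm_num) m h' h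
  rcases Nat.lt_or_ge m 19 with h' | h'
  · exact NT4_link 13 19 23 (by norm_num) (by norm_num) (by norm_num) (by norm_num) m h h'
  rcases Nat.lt_or_ge m 23 with h | h
  · exact NT4_link 19 23 37 (by norm_num) (by norm_num) (by norm_num) (by norm_num) m h' h
  rcases Nat.lt_or_ge m 37 with h' | h'
  · exact NT4_link 23 37 43 (by norm_num) (by norm_num) (by norm_num) (by norm_num) m h h'
  rcases Nat.lt_or_ge m 43 with h | h
  · exact NT4_link 37 43 73 (by norm_num) (by norm_num) (by norm_num) (by norm_num) m h' h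
  rcases Nat.lt_or_ge m 73 with h' | h'
  · exact NT4_link 43 73 83 (by norm_num) (by norm_num) (by norm_num) (by norm_num) m h h'
  rcases Nat.lt_or_ge m 83 with h | h
  · exact NT4_link 73 83 139 (by norm_num) (by norm_num) (by norm_num) (by norm_num) m h' h
  rcases Nat.lt_or_ge m 139 with h' | h'
  · exact NT4_link 83 139 163 (by norm_num) (by norm_num) (by norm_num) (by norm_num) m h h'
  rcases Nat.lt_or_ge m 163 with h | h
  · exact NT4_link 139 163 277 (by norm_num) (by norm_num) (by norm_num) (by norm_num) m h' h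
  rcases Nat.lt_or_ge m 277 with h' | h'
  · exact NT4_link 163 277 317 (by norm_num) (by norm_num) (by norm_num) (by norm_num) m h h'
  rcases Nat.lt_or_ge m 317 with h | h
  · exact NT4_link 277 317 547 (by norm_num) (by norm_num) (by norm_num) (by norm_num) m h' h
  rcases Nat.lt_or_ge m 547 with h' | h'
  · exact NT4_link 317 547 631 (by norm_num) (by norm_num) (by norm_num) (by norm_num) m h h'
  exact two_primes_eventually m (by omega)

theorem two_primes (n : ℕ) (hn : 11 ≤ n) :
    ∃ p r : ℕ, p.Prime ∧ r.Prime ∧ r < p ∧ p ≤ n ∧ n < 2 * r := by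
  rcases Nat.lt_or_ge n 12 with h | h
  · have : n = 11 := by omega
    subst this
    exact ⟨11, 7, by norm_num, by norm_num, by norm_num, by norm_num, by norm_num⟩
  · obtain ⟨p, r, hp, hr, h1, h2, h3⟩ := two_primes_between (n / 2) (by omega)
    exact ⟨p, r, hp, hr, h2, by omega, by omega⟩

end Cfsg.Agent.S3419L
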