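import Mathlib
import Cfsg.Agent.Lib.S3419.L1
import Cfsg.Agent.Lib.S3419.NT4
import Cfsg.Agent.Lib.S3419.AN

/-!
# S3419: a group with the order and the spectrum of `A_n` (`n ≥ 5`) is not solvable
-/

set_option autoImplicit false

namespace Cfsg.Agent.S3419L

universe u

/-- a prime `p` with `p ≤ n < 2p` divides `n!` exactly once -/
theorem M_not_sq_dvd_factorial {n p : ℕ} (hp : p.Prime) (hpn : p ≤ n) (hn2p : n < 2 * p) :
    ¬ p ^ 2 ∣ n.factorial := by
  have hlog : Nat.log p n < 2 := by
    apply Nat.log_lt_of_lt_pow (by omega)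
    calc n < 2 * p := hn2p
      _ ≤ p * p := Nat.mul_le_mul_right p hp.two_le
      _ = p ^ 2 := (sq p).symm
  rw [hp.pow_dvd_factorial_iff hlog]
  have h1 : n / p = 1 := by
    apply Nat.div_eq_of_lt_le
    · simpa using hpn
    · simpa [two_mul, Nat.succ_mul] using hn2p
  simp [h1]

/-- an odd prime `p` with `p ≤ n < 2p` divides `|A_n|` exactly once -/
theorem M_prime_exact {n p : ℕ} (hn : 2 ≤ n) (hp : p.Prime) (hp2 : p ≠ 2) (hpn : p ≤ n)
    (hn2p : n < 2 * p) :
    p ∣ Nat.card ↥(alternatingGroup (Fin n)) ∧ ¬ p ^ 2 ∣ Nat.card ↥(alternatingGroup (Fin n)) := by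
  have hc := two_mul_card_alt n hn
  constructor
  · have h1 : p ∣ 2 * Nat.card ↥(alternatingGroup (Fin n)) := by
      rw [hc]; exact (hp.dvd_factorial).2 hpn
    rcases (Nat.Prime.dvd_mul hp).1 h1 with h | h
    · exact absurd ((Nat.prime_dvd_prime_iff_eq hp Nat.prime_two).1 h) hp2
    · exact h
  · intro h
    apply M_not_sq_dvd_factorial hp hpn hn2p
    rw [← hc]
    exact Dvd.dvd.mul_left h 2

/-- the group-theoretic core: apply L1 to `G` -/
theorem M_core {G : Type u} [Group G] [Finite G] (n : ℕ) (hn : 2 ≤ n)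
    (hcard : Nat.card G = Nat.card ↥(alternatingGroup (Fin n)))
    (hspec : Set.range (orderOf : G → ℕ) = Set.range (orderOf : ↥(alternatingGroup (Fin n)) → ℕ))
    (hsol : Group.IsSolvable G) (p r a m : ℕ) (hp : p.Prime) (hr : r.Prime) (hpr : p ≠ r)
    (hsum : n < p + r) (hp2 : p ≠ 2) (hpn : p ≤ n) (hn2p : n < 2 * p)
    (hA : Nat.card ↥(alternatingGroup (Fin n)) = r ^ a * m) (hm : ¬ r ∣ m) :
    ∃ e, e ≤ a ∧ r ^ e ∣ p - 1 ∧ r ^ (a - e) ≡ 1 [MOD p] := by
  obtain ⟨h1, h2⟩ := M_prime_exact hn hp hp2 hpn hn2p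
  refine solvable_prime_structure G hsol p r a m hp hr hpr (hcard ▸ h1) (hcard ▸ h2)
    (hcard.trans hA) hm ?_
  intro g hg
  have : p * r ∈ Set.range (orderOf : G → ℕ) := ⟨g, hg⟩
  rw [hspec] at this
  obtain ⟨σ, hσ⟩ := this
  exact no_orderOf_mul_primes hp hr hpr hsum (σ : Equiv.Perm (Fin n))
    (by rw [Subgroup.orderOf_coe]; exact hσ)

/-- two odd primes `r < p` in `(n/2, n]` are impossible -/
theorem M_two_primes {G : Type u} [Group G] [Finite G] (n : ℕ) (hn : 2 ≤ n)
    (hcard : Nat.card G = Nat.card ↥(alternatingGroup (Fin n)))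
    (hspec : Set.range (orderOf : G → ℕ) = Set.range (orderOf : ↥(alternatingGroup (Fin n)) → ℕ))
    (hsol : Group.IsSolvable G) (p r : ℕ) (hp : p.Prime) (hr : r.Prime) (hrp : r < p)
    (hpn : p ≤ n) (hn2r : n < 2 * r) (hr2 : r ≠ 2) : False := by
  have hp2 : p ≠ 2 := by have := hr.two_le; omega
  obtain ⟨hr1, hr2'⟩ := M_prime_exact hn hr hr2 (by omega) hn2r
  obtain ⟨m, hm⟩ := hr1
  have hrm : ¬ r ∣ m := by
    rintro ⟨m', rfl⟩
    apply hr2'
    rw [hm]
    exact ⟨m', by ring⟩
  obtain ⟨e, he, hdvd, hmod⟩ := M_core n hn hcard hspec hsol p r 1 m hp hr (by omega) (by omega)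
    hp2 hpn (by omega) (by rw [hm, pow_one]) hrm
  have hrodd : r % 2 = 1 := by
    rcases hr.eq_two_or_odd with h | h
    · exact absurd h hr2
    · exact h
  have hpodd : p % 2 = 1 := by
    rcases hp.eq_two_or_odd with h | h
    · exact absurd h hp2
    · exact h
  interval_cases e
  · -- `r ≡ 1 mod p`
    simp only [Nat.sub_zero, pow_one] at hmod
    have h1 : r % p = 1 % p := hmod
    rw [Nat.mod_eq_of_lt hrp, Nat.mod_eq_of_lt (by omega : 1 < p)] at h1
    have := hr.two_le
    omega
  · -- `r ∣ p - 1`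
    rw [pow_one] at hdvd
    obtain ⟨j, hj⟩ := hdvd
    have hj1 : j = 1 := by
      have hjpos : 0 < j := by
        rcases Nat.eq_zero_or_pos j with h | h
        · subst h; omega
        · exact h
      by_contra hne
      have : 2 ≤ j := by omega
      have : 2 * r ≤ r * j := by nlinarith
      omega
    subst hj1
    omega

theorem main {G : Type u} [Group G] [Finite G] (n : ℕ) (hn : 5 ≤ n)
    (hcard : Nat.card G = Nat.card ↥(alternatingGroup (Fin n)))
    (hspec : Set.range (orderOf : G → ℕ) = Set.range (orderOf : ↥(alternatingGroup (Fin n)) → ℕ)) :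
    ¬ Group.IsSolvable G := by
  intro hsol
  by_cases h11 : 11 ≤ n
  · obtain ⟨p, r, hp, hr, hrp, hpn, hn2r⟩ := two_primes n h11
    exact M_two_primes n (by omega) hcard hspec hsol p r hp hr hrp hpn hn2r (by omega)
  · have hn' : n = 5 ∨ n = 6 ∨ n = 7 ∨ n = 8 ∨ n = 9 ∨ n = 10 := by omega
    rcases hn' with rfl | rfl | rfl | rfl | rfl | rfl
    · exact M_two_primes 5 (by omega) hcard hspec hsol 5 3 (by norm_num) (by norm_num) (by omega)
        (by omega) (by omega) (by omega)
    · -- `n = 6`: `p = 5`, `r = 3`, `|A_6| = 3² · 40`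
      have hc := two_mul_card_alt 6 (by omega)
      have hA : Nat.card ↥(alternatingGroup (Fin 6)) = 3 ^ 2 * 40 := by
        have : Nat.factorial 6 = 720 := by decide
        omega
      obtain ⟨e, he, hdvd, hmod⟩ := M_core 6 (by omega) hcard hspec hsol 5 3 2 40 (by norm_num)
        (by norm_num) (by omega) (by omega) (by omega) (by omega) (by omega) hA (by omega)
      interval_cases e
      · exact absurd hmod (by decide)
      · exact absurd hdvd (by decide)
      · exact absurd hdvd (by decide)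
    · exact M_two_primes 7 (by omega) hcard hspec hsol 7 5 (by norm_num) (by norm_num) (by omega)
        (by omega) (by omega) (by omega)
    · exact M_two_primes 8 (by omega) hcard hspec hsol 7 5 (by norm_num) (by norm_num) (by omega)
        (by omega) (by omega) (by omega)
    · exact M_two_primes 9 (by omega) hcard hspec hsol 7 5 (by norm_num) (by norm_num) (by omega)
        (by omega) (by omega) (by omega)
    · -- `n = 10`: `p = 7`, `r = 5`, `|A_10| = 5² · 72576`
      have hc := two_mul_card_alt 10 (by omega)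
      have hA : Nat.card ↥(alternatingGroup (Fin 10)) = 5 ^ 2 * 72576 := by
        have : Nat.factorial 10 = 3628800 := by decide
        omega
      obtain ⟨e, he, hdvd, hmod⟩ := M_core 10 (by omega) hcard hspec hsol 7 5 2 72576
        (by norm_num) (by norm_num) (by omega) (by omega) (by omega) (by omega) (by omega) hA
        (by omega)
      interval_cases e
      · exact absurd hmod (by decide)
      · exact absurd hdvd (by decide)
      · exact absurd hdvd (by decide)

end Cfsg.Agent.S3419L
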